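import Groth.Agent.Lib.Helper5.Lim.ModuleExactFlat
import Groth.Agent.Lib.Lead.QC.EpiLocal
import Groth.Agent.Lib.Lead.QC.Support
import Groth.Agent.Lib.Lead.QC.SuppSES

/-! # Mittag-Leffler towers of quasi-coherent modules: the image of the limit is the stable image. -/

set_option autoImplicit false
universe u
open CategoryTheory Limits AlgebraicGeometry TopologicalSpace Opposite

namespace Groth.Agent.LD.ML

/-- a compatible family through a given element in a tower with "surjective" stable subsets. -/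
theorem exists_compatible_family {A : ℕ → Type u} (r : ∀ {m n : ℕ}, n ≤ m → A m → A n)
    (r_refl : ∀ (n : ℕ) (a : A n), r (le_refl n) a = a)
    (r_trans : ∀ {l m n : ℕ} (h₁ : n ≤ m) (h₂ : m ≤ l) (a : A l),
      r h₁ (r h₂ a) = r (h₁.trans h₂) a)
    (S : ∀ n, Set (A n))
    (hS : ∀ (n : ℕ) (a : A n), a ∈ S n → ∃ b ∈ S (n + 1), r (Nat.le_succ n) b = a)
    (e : ℕ) (s : A e) (hs : s ∈ S e) :
    ∃ t : ∀ n, A n, t e = s ∧ ∀ (m n : ℕ) (h : n ≤ m), r h (t m) = t n := by
  classical
  let y : ∀ j : ℕ, {a : A (e + j) // a ∈ S (e + j)} := fun j =>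
    Nat.rec (motive := fun j => {a : A (e + j) // a ∈ S (e + j)}) ⟨s, hs⟩
      (fun j a => ⟨(hS (e + j) a.1 a.2).choose, (hS (e + j) a.1 a.2).choose_spec.1⟩) j
  have hy : ∀ j, r (Nat.le_succ (e + j)) (y (j + 1)).1 = (y j).1 := fun j =>
    (hS (e + j) (y j).1 (y j).2).choose_spec.2
  have hy2 : ∀ (k m : ℕ) (h : k ≤ m), r (Nat.add_le_add_left h e) (y m).1 = (y k).1 := by
    intro k m h
    induction m, h using Nat.le_induction with
    | base => exact r_refl _ _
    | succ m hkm ih =>
      have h1 : r (Nat.add_le_add_left (Nat.le_succ_of_le hkm) e) (y (m + 1)).1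
          = r (Nat.add_le_add_left hkm e) (r (Nat.le_succ (e + m)) (y (m + 1)).1) :=
        (r_trans _ _ _).symm
      exact h1.trans ((congrArg _ (hy m)).trans ih)
  refine ⟨fun n => r (Nat.le_add_left n e) (y n).1, ?_, ?_⟩
  · exact hy2 0 e (Nat.zero_le e)
  · intro m n h
    show r h (r (Nat.le_add_left m e) (y m).1) = r (Nat.le_add_left n e) (y n).1
    rw [r_trans, ← hy2 n m h, r_trans]

variable {X : Scheme.{u}}

/-- sections over `U`, as a functor to types. -/
noncomputable def secF (X : Scheme.{u}) (U : X.Opens) : X.Modules ⥤ Type u :=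
  Scheme.Modules.toPresheaf X ⋙ (evaluation _ _).obj (op U) ⋙ forget AddCommGrpCat

noncomputable instance (U : X.Opens) : PreservesLimits (secF X U) := by
  unfold secF
  haveI : PreservesLimits ((evaluation (Opens ↥X)ᵒᵖ Ab.{u}).obj (op U) ⋙
      forget AddCommGrpCat.{u}) := inferInstance
  exact comp_preservesLimits (Scheme.Modules.toPresheaf X) _

lemma secF_map_apply (U : X.Opens) {M N : X.Modules} (φ : M ⟶ N) (a : Γ(M, U)) :
    (secF X U).map φ a = φ.app U a := rfl

lemma T_comp (G : ℕᵒᵖ ⥤ X.Modules) {n m l : ℕ} (h₁ : n ≤ m) (h₂ : m ≤ l) (W : X.Opens)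
    (a : Γ(G.obj (op l), W)) :
    (G.map (homOfLE h₁).op).app W ((G.map (homOfLE h₂).op).app W a) =
      (G.map (homOfLE (h₁.trans h₂)).op).app W a := by
  have h : (homOfLE (h₁.trans h₂)).op = (homOfLE h₂).op ≫ (homOfLE h₁).op :=
    Subsingleton.elim _ _
  rw [h, G.map_comp]
  rfl

lemma T_refl (G : ℕᵒᵖ ⥤ X.Modules) (n : ℕ) (W : X.Opens) (a : Γ(G.obj (op n), W)) :
    (G.map (homOfLE (le_refl n)).op).app W a = a := by
  have h : (homOfLE (le_refl n)).op = 𝟙 (op n) := Subsingleton.elim _ _
  rw [h, G.map_id]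
  rfl

/-- a compatible family of sections over `U` is a section of the limit. -/
theorem exists_section_limit (G : ℕᵒᵖ ⥤ X.Modules) (U : X.Opens)
    (t : ∀ n : ℕ, Γ(G.obj (op n), U))
    (ht : ∀ (m n : ℕ) (h : n ≤ m), (G.map (homOfLE h).op).app U (t m) = t n) :
    ∃ g : Γ(limit G, U), ∀ n, (limit.π G (op n)).app U g = t n := by
  haveI : PreservesLimitsOfSize.{0, 0} (secF X U) :=
    preservesSmallestLimits_of_preservesLimits _
  have hl : IsLimit ((secF X U).mapCone (limit.cone G)) :=
    isLimitOfPreserves _ (limit.isLimit G)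
  have hsec : (fun j : ℕᵒᵖ => (t j.unop : (G ⋙ secF X U).obj j)) ∈ (G ⋙ secF X U).sections := by
    intro j j' f
    have hf : f = (homOfLE (leOfHom f.unop)).op := Subsingleton.elim _ _
    rw [hf]
    exact ht j.unop j'.unop _
  obtain ⟨g, hg, -⟩ := (Types.isLimit_iff ((secF X U).mapCone (limit.cone G))).mp ⟨hl⟩ _ hsec
  exact ⟨g, fun n => hg (op n)⟩

/-- morphisms of quasi-coherent modules with the same image subobject have the same image on
sections over an affine open. -/
theorem exists_app_eq_of_imageSubobject_eq {A B C : X.Modules} (hB : B.IsQuasicoherent)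
    (hC : C.IsQuasicoherent) (f : A ⟶ C) (g : B ⟶ C)
    (h : imageSubobject f = imageSubobject g)
    {W : X.Opens} (hW : IsAffineOpen W) (a : Γ(A, W)) :
    ∃ b : Γ(B, W), g.app W b = f.app W a := by
  have hIq : ((imageSubobject g : X.Modules)).IsQuasicoherent :=
    QC.qc_of_iso (imageSubobjectIso g).symm (H5.Lim.qc_image g hB hC)
  have hu : (factorThruImageSubobject f ≫ Subobject.ofLE _ _ h.le) ≫ (imageSubobject g).arrow
      = f := by
    rw [Category.assoc, Subobject.ofLE_arrow, imageSubobject_arrow_comp]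
  obtain ⟨b, hb⟩ := QC.epi_app_affine hB hIq (factorThruImageSubobject g) hW
    ((factorThruImageSubobject f ≫ Subobject.ofLE _ _ h.le).app W a)
  refine ⟨b, ?_⟩
  have h1 : g.app W b = (imageSubobject g).arrow.app W ((factorThruImageSubobject g).app W b) := by
    have : (factorThruImageSubobject g ≫ (imageSubobject g).arrow).app W b = g.app W b := by
      rw [imageSubobject_arrow_comp]
    exact this.symm
  rw [h1, hb]
  have h2 : ((factorThruImageSubobject f ≫ Subobject.ofLE _ _ h.le) ≫
      (imageSubobject g).arrow).app W a = f.app W a := by rw [hu]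
  exact h2

/-- **the image of the limit of a Mittag-Leffler tower of coherent modules has closed support.** -/
theorem main (X : Scheme.{u})
    (G : ℕᵒᵖ ⥤ X.Modules) (hG : ∀ n : ℕᵒᵖ, Coh.IsCoh (G.obj n))
    (hML : ∀ e : ℕ, ∃ (d : ℕ) (hd : e ≤ d), ∀ (d' : ℕ) (hd' : d ≤ d'),
      imageSubobject (G.map (homOfLE (hd.trans hd')).op) = imageSubobject (G.map (homOfLE hd).op))
    (e : ℕ) : IsClosed (CohB1.support (image (limit.π G (op e)))) := by
  classical
  choose d hd hst using hML
  have hq : ∀ n : ℕ, (G.obj (op n)).IsQuasicoherent := fun n => (hG (op n)).1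
  have hqI : (image (G.map (homOfLE (hd e)).op)).IsQuasicoherent :=
    H5.Lim.qc_image _ (hq _) (hq _)
  have hfI : (image (G.map (homOfLE (hd e)).op)).IsFiniteType :=
    H5.Lim.isFiniteType_image _ (hq _) (hq _) (hG (op (d e))).2
  have hp : (limit.π G (op (d e)) ≫ factorThruImage (G.map (homOfLE (hd e)).op)) ≫
      image.ι (G.map (homOfLE (hd e)).op) = limit.π G (op e) := by
    rw [Category.assoc, image.fac]
    exact limit.w G (homOfLE (hd e)).op
  have hepi : Epi (limit.π G (op (d e)) ≫ factorThruImage (G.map (homOfLE (hd e)).op)) := by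
    apply QC.epi_of_local_lift
    intro U t x hx
    obtain ⟨W, hW, hxW, hWU⟩ := (Opens.isBasis_iff_nbhd.mp X.isBasis_affineOpens) hx
    refine ⟨W, hWU, hxW, ?_⟩
    obtain ⟨a, ha⟩ := QC.epi_app_affine (hq _) hqI
      (factorThruImage (G.map (homOfLE (hd e)).op)) hW
      ((image (G.map (homOfLE (hd e)).op)).presheaf.map (homOfLE hWU).op t)
    -- the tower of sections over `W`
    have hS : ∀ (n : ℕ) (a : Γ(G.obj (op n), W)),
        a ∈ Set.range ((G.map (homOfLE (hd n)).op).app W) →
        ∃ b ∈ Set.range ((G.map (homOfLE (hd (n + 1))).op).app W),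
          (G.map (homOfLE (Nat.le_succ n)).op).app W b = a := by
      rintro n _ ⟨a₀, rfl⟩
      have hD1 : d n ≤ max (d n) (d (n + 1)) := le_max_left _ _
      have hD2 : d (n + 1) ≤ max (d n) (d (n + 1)) := le_max_right _ _
      obtain ⟨a₁, ha₁⟩ := exists_app_eq_of_imageSubobject_eq (hq _) (hq _)
        (G.map (homOfLE (hd n)).op) (G.map (homOfLE ((hd n).trans hD1)).op)
        (hst n _ hD1).symm hW a₀
      obtain ⟨b₀, hb₀⟩ := exists_app_eq_of_imageSubobject_eq (hq _) (hq _)
        (G.map (homOfLE ((hd (n + 1)).trans hD2)).op) (G.map (homOfLE (hd (n + 1))).op)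
        (hst (n + 1) _ hD2) hW a₁
      refine ⟨_, ⟨b₀, rfl⟩, ?_⟩
      rw [hb₀, T_comp, ← ha₁]
    obtain ⟨tt, htt_e, htt⟩ := exists_compatible_family (A := fun n => Γ(G.obj (op n), W))
      (fun {m n} h a => (G.map (homOfLE h).op).app W a)
      (fun n a => T_refl G n W a) (fun h₁ h₂ a => T_comp G h₁ h₂ W a)
      (fun n => Set.range ((G.map (homOfLE (hd n)).op).app W)) hS e
      ((G.map (homOfLE (hd e)).op).app W a) ⟨a, rfl⟩
    obtain ⟨g, hg⟩ := exists_section_limit G W tt htt
    refine ⟨g, ?_⟩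
    apply QC.mono_app (image.ι (G.map (homOfLE (hd e)).op)) W
    have h1 : (image.ι (G.map (homOfLE (hd e)).op)).app W
        ((limit.π G (op (d e)) ≫ factorThruImage (G.map (homOfLE (hd e)).op)).app W g) =
        (limit.π G (op e)).app W g := by
      rw [← hp]
      rfl
    rw [h1, hg e, htt_e, ← ha]
    have h2 : (factorThruImage (G.map (homOfLE (hd e)).op) ≫
        image.ι (G.map (homOfLE (hd e)).op)).app W a = (G.map (homOfLE (hd e)).op).app W a := by
      rw [image.fac]
    exact h2.symm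
  haveI := hepi
  haveI : StrongEpi (limit.π G (op (d e)) ≫ factorThruImage (G.map (homOfLE (hd e)).op)) :=
    strongEpi_of_epi _
  rw [← QC.support_eq_of_iso (image.isoStrongEpiMono _ _ hp)]
  exact QC.isClosed_support_of_isFiniteType _ hfI

end Groth.Agent.LD.ML
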